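import Groth.Agent.CechEdge.K869.Edge

/-!
# Edge maps for sheaves: injectivity in degree one, bijectivity for acyclic covers
-/

set_option autoImplicit false
universe u

open CategoryTheory CategoryTheory.Limits Opposite
open Groth.Agent.Localalg.DeltaFun

namespace K869.Acyc

open Groth.Agent.CohtopB.CechColim Groth.Agent.CohtopB.CechSite CechEdge K869.Delta K869.Zero K869.Edge

variable {C : Type u} [SmallCategory C] {J : GrothendieckTopology C}

/-- For a sheaf the unit is an isomorphism. -/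
theorem isIso_toSh {P : Cᵒᵖ ⥤ AddCommGrpCat.{u}} (hP : Presheaf.IsSheaf J P) : IsIso (toSh J P) :=
  isIso_toSheafify J hP

theorem toSh_bijective {P : Cᵒᵖ ⥤ AddCommGrpCat.{u}} (hP : Presheaf.IsSheaf J P) (V : Cᵒᵖ) :
    Function.Bijective ((toSh J P).app V).hom := by
  have := isIso_toSh hP
  have : IsIso ((toSh J P).app V) := inferInstance
  exact ConcreteCategory.bijective_of_isIso ((toSh J P).app V)

theorem toSh_app {P Q : Cᵒᵖ ⥤ AddCommGrpCat.{u}} (φ : P ⟶ Q) (V : Cᵒᵖ) (x : P.obj V) :
    ((toSh J Q).app V).hom ((φ.app V).hom x) = ((shfMap J φ).hom.app V).hom (((toSh J P).app V).hom x) :=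
  congrArg (fun t => (t.app V).hom x) (toSh_natural J φ)

/-- Sheafified short exact sequence. -/
theorem shortExact_shf {S : ShortComplex (Cᵒᵖ ⥤ AddCommGrpCat.{u})} (hS : S.ShortExact) :
    (S.map (presheafToSheaf J AddCommGrpCat.{u})).ShortExact :=
  hS.map_of_exact (presheafToSheaf J AddCommGrpCat.{u})

/-- The quotient presheaf of a sheaf by a subsheaf is separated. -/
theorem toSh_injective_quot {S : ShortComplex (Cᵒᵖ ⥤ AddCommGrpCat.{u})} (hS : S.ShortExact)
    (h₁ : Presheaf.IsSheaf J S.X₁) (h₂ : Presheaf.IsSheaf J S.X₂) (V : C) :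
    Function.Injective ((toSh J S.X₃).app (op V)).hom := by
  rw [injective_iff_map_eq_zero]
  intro s hs
  obtain ⟨i, rfl⟩ := app_surjective hS (op V) s
  rw [toSh_app] at hs
  obtain ⟨p', hp'⟩ := exists_section_of_app_eq_zero (shortExact_shf (J := J) hS) V
    (((toSh J S.X₂).app (op V)).hom i) hs
  obtain ⟨p, rfl⟩ := (toSh_bijective h₁ (op V)).2 p'
  have h3 : ((toSh J S.X₂).app (op V)).hom ((S.f.app (op V)).hom p) = ((toSh J S.X₂).app (op V)).hom i :=
    (toSh_app S.f (op V) p).trans hp'
  rw [← (toSh_bijective h₂ (op V)).1 h3]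
  exact app_zero (op V) p

/-- Surjectivity of the unit on the quotient presheaf when `H¹(V, X₁) = 0`. -/
theorem toSh_surjective_quot {S : ShortComplex (Cᵒᵖ ⥤ AddCommGrpCat.{u})} (hS : S.ShortExact)
    (h₂ : Presheaf.IsSheaf J S.X₂) (V : C) (h : IsZero (((TH J V).T 1).obj S.X₁)) :
    Function.Surjective ((toSh J S.X₃).app (op V)).hom := by
  intro t
  have h1 : ((TH J V).δ hS 0).hom (sectH0 J V (shf J S.X₃) t) = 0 := by
    have := AddCommGrpCat.subsingleton_of_isZero h
    exact Subsingleton.elim _ _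
  obtain ⟨z, hz⟩ := (ShortComplex.ab_exact_iff _).1 ((TH J V).exact₃ hS 0) (sectH0 J V (shf J S.X₃) t) h1
  obtain ⟨i', rfl⟩ := (sectH0 J V (shf J S.X₂)).surjective z
  have h2 : HUmap (shfMap J S.g) 0 V (sectH0 J V (shf J S.X₂) i') = sectH0 J V (shf J S.X₃) t := hz
  rw [← sectH0_natural] at h2
  have h3 := (sectH0 J V (shf J S.X₃)).injective h2
  obtain ⟨i, rfl⟩ := (toSh_bijective h₂ (op V)).2 i'
  exact ⟨(S.g.app (op V)).hom i, (toSh_app S.g (op V) i).trans h3⟩

variable [HasPullbacks C] {U : C} {ι : Type u} {Y : ι → Over U}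

/-- `Ȟ⁰` preserves injections. -/
theorem cechHMap_zero_injective {P Q : Cᵒᵖ ⥤ AddCommGrpCat.{u}} (φ : P ⟶ Q)
    (h : ∀ V : C, Function.Injective (φ.app (op V)).hom) : Function.Injective (cechHMap Y φ 0) := by
  rw [injective_iff_map_eq_zero]
  intro x hx
  obtain ⟨z, rfl⟩ := (homologyπ_bijective Y P).2 x
  let f : cx P Y ⟶ cx Q Y := (cxFunctor Y).map φ
  have h1 : HomologicalComplex.homologyMap f 0 (((cx P Y).homologyπ 0).hom z) =
      ((cx Q Y).homologyπ 0).hom ((HomologicalComplex.cyclesMap f 0).hom z) :=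
    congrArg (fun t => t.hom z) (HomologicalComplex.homologyπ_naturality f 0)
  have h2 : (HomologicalComplex.cyclesMap f 0).hom z = 0 := by
    apply (homologyπ_bijective Y Q).1
    rw [← h1, map_zero]
    exact hx
  have h3 : ((cx Q Y).iCycles 0).hom ((HomologicalComplex.cyclesMap f 0).hom z) =
      (f.f 0).hom (((cx P Y).iCycles 0).hom z) :=
    congrArg (fun t => t.hom z) (HomologicalComplex.cyclesMap_i f 0)
  rw [h2, map_zero] at h3
  have h4 : ((cx P Y).iCycles 0).hom z = 0 := by
    refine cech_ext (P := P) (Y := Y) _ _ fun a => h _ ?_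
    refine (cechCxMap_π φ Y a _).symm.trans ?_
    refine (congrArg (cechπ Q Y a).hom h3.symm).trans ?_
    rw [map_zero, map_zero, map_zero]
  have h5 : z = 0 := iCycles_injective Y P 0 (h4.trans (map_zero _).symm)
  rw [h5, map_zero]

/-- A map of presheaves bijective on the iterated products induces bijections on Cech cohomology. -/
theorem isIso_cxMap {P Q : Cᵒᵖ ⥤ AddCommGrpCat.{u}} (φ : P ⟶ Q)
    (h : ∀ (n : ℕ) (a : Fin (n + 1) → ι), Function.Bijective (φ.app (op (∏ᶜ fun k => Y (a k)).left)).hom) :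
    IsIso ((cxFunctor Y).map φ) := by
  have : ∀ n, IsIso (((cxFunctor Y).map φ).f n) := by
    intro n
    rw [ConcreteCategory.isIso_iff_bijective]
    constructor
    · intro x y hxy
      refine cech_ext (P := P) (Y := Y) _ _ fun a => (h n a).1 ?_
      refine (cechCxMap_π φ Y a _).symm.trans ?_
      exact (congrArg (cechπ Q Y a).hom hxy).trans (cechCxMap_π φ Y a _)
    · intro x
      have h' : ∀ a : Fin (n + 1) → ι, _ := fun a => (h n a).2 ((cechπ Q Y a).hom x)
      choose y hy using h'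
      obtain ⟨z, hz⟩ := cech_exists (P := P) (Y := Y) y
      refine ⟨z, cech_ext (P := Q) (Y := Y) _ _ fun a => ?_⟩
      refine (cechCxMap_π φ Y a z).trans ?_
      rw [hz, hy]
  exact HomologicalComplex.Hom.isIso_of_components _

variable {e : ∀ (P : Cᵒᵖ ⥤ AddCommGrpCat.{u}) (p : ℕ),
    CohCx.cechH P Y p →+ CohSite.HU (CechEdge.shf J P) p U} (he : CechEdge.IsEdge J Y e)

include he

/-- The edge map in degree zero is injective for separated presheaves. -/
theorem e_zero_injective (P : Cᵒᵖ ⥤ AddCommGrpCat.{u})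
    (h : ∀ V : C, Function.Injective ((toSh J P).app (op V)).hom) : Function.Injective (e P 0) := by
  rw [injective_iff_map_eq_zero]
  intro x hx
  have h1 := he.natural P _ (toSh J P) 0 x
  rw [hx, map_zero] at h1
  obtain ⟨t, ht⟩ := (toCech_bijective Y (shf J P) he.cover).2 (cechHMap Y (toSh J P) 0 x)
  rw [← ht, he.zero] at h1
  have h2 := (sectH0 J U (shf J (shf J P).obj)).injective (h1.trans (map_zero _).symm)
  have h3 : t = 0 := (toSh_bijective (shf J P).property (op U)).1 (h2.trans (map_zero _).symm)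
  apply cechHMap_zero_injective (toSh J P) h
  rw [← ht, h3, map_zero, map_zero]

/-- The edge map in degree zero is bijective for sheaves. -/
theorem e_zero_bijective {P : Cᵒᵖ ⥤ AddCommGrpCat.{u}} (hP : Presheaf.IsSheaf J P) :
    Function.Bijective (e P 0) := by
  refine ⟨e_zero_injective he P fun V => (toSh_bijective hP _).1, fun z => ?_⟩
  obtain ⟨t, rfl⟩ := (sectH0 J U (shf J P)).surjective z
  obtain ⟨s, rfl⟩ := (toSh_bijective hP (op U)).2 t
  exact ⟨toCech Y P s, he.zero P s⟩

omit he [HasPullbacks C] in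
/-- Short exact sequence `0 → F → I → I/F → 0` of presheaves with `I` an injective sheaf. -/
theorem exists_ses (F : Sheaf J AddCommGrpCat.{u}) :
    ∃ (I : Sheaf J AddCommGrpCat.{u}) (S : ShortComplex (Cᵒᵖ ⥤ AddCommGrpCat.{u})) (_ : S.ShortExact),
      Injective I ∧ S.X₁ = F.obj ∧ S.X₂ = I.obj := by
  have h1 : Mono ((sheafToPresheaf J AddCommGrpCat.{u}).map (Injective.ι F)) := inferInstance
  refine ⟨Injective.under F, _, shortExact_cokernel ((sheafToPresheaf J AddCommGrpCat.{u}).map (Injective.ι F)),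
    inferInstance, rfl, rfl⟩

/-- Injectivity of the edge map in degree one, for sheaves. -/
theorem e_one_injective (F : Sheaf J AddCommGrpCat.{u}) : Function.Injective (e F.obj 1) := by
  obtain ⟨I, S, hS, hI, hF', hI'⟩ := exists_ses F
  rw [← hF']
  have h₁ : Presheaf.IsSheaf J S.X₁ := hF' ▸ F.property
  have h₂ : Presheaf.IsSheaf J S.X₂ := hI' ▸ I.property
  have hinj : Injective S.X₂ := by
    rw [hI']
    exact Groth.Agent.CohtopA.CechInj.injective_presheaf_of_injective_sheaf I
  rw [injective_iff_map_eq_zero]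
  intro x hx
  have hz := TC_effaceable Y S.X₂ 0
  have hepi := epi_δ (TC Y) hS 0 hz
  obtain ⟨y, rfl⟩ := (AddCommGrpCat.epi_iff_surjective _).1 hepi x
  have h1 := he.delta S hS (shortExact_cx Y hS) 0 y
  have h2 : ((TH J U).δ hS 0).hom (e S.X₃ 0 y) = 0 := h1.symm.trans hx
  obtain ⟨z, hz⟩ := (ShortComplex.ab_exact_iff _).1 ((TH J U).exact₃ hS 0) (e S.X₃ 0 y) h2
  obtain ⟨w, rfl⟩ := (e_zero_bijective he h₂).2 z
  have h3 : HUmap (shfMap J S.g) 0 U (e S.X₂ 0 w) = e S.X₃ 0 y := hz
  rw [← he.natural] at h3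
  have h4 := e_zero_injective he S.X₃ (toSh_injective_quot hS h₁ h₂) h3
  rw [← h4]
  exact congrArg (fun t => t.hom w) ((TC Y).zero₃ hS 0)

omit he [HasPullbacks C] in
theorem isZero_TH_injective (I : Sheaf J AddCommGrpCat.{u}) [Injective I] (V : C) (q : ℕ) :
    IsZero (((TH J V).T (q + 1)).obj I.obj) := by
  have h1 : IsZero (((ofExt (CohCx.freeSheaf J V)).T (q + 1)).obj I) := ofExt_effaceable _ I q
  exact h1.of_iso (((ofExt (CohCx.freeSheaf J V)).T (q + 1)).mapIso
    (asIso ((sheafificationAdjunction J AddCommGrpCat.{u}).counit.app I)))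

omit he [HasPullbacks C] in
theorem isZero_TH_of_HU (F : Sheaf J AddCommGrpCat.{u}) (V : C) (q : ℕ)
    (h : Subsingleton (CohSite.HU F q V)) : IsZero (((TH J V).T q).obj F.obj) := by
  have h1 : IsZero (((ofExt (CohCx.freeSheaf J V)).T q).obj F) := by
    have : Subsingleton (((ofExt (CohCx.freeSheaf J V)).T q).obj F) := h
    exact AddCommGrpCat.isZero_of_subsingleton _
  exact h1.of_iso (((ofExt (CohCx.freeSheaf J V)).T q).mapIso
    (asIso ((sheafificationAdjunction J AddCommGrpCat.{u}).counit.app F)))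

omit he [HasPullbacks C] in
theorem isZero_TH_shf {P : Cᵒᵖ ⥤ AddCommGrpCat.{u}} (V : C) (q : ℕ)
    (h : IsZero (((TH J V).T q).obj P)) : IsZero (((TH J V).T q).obj (shf J P).obj) := by
  have : IsIso (shfMap J (toSh J P)) := isIso_shfMap_toSh P
  exact h.of_iso (((ofExt (CohCx.freeSheaf J V)).T q).mapIso (asIso (shfMap J (toSh J P)))).symm

theorem e_bijective (p : ℕ) : ∀ (F : Sheaf J AddCommGrpCat.{u})
    (_ : ∀ (n : ℕ) (a : Fin (n + 1) → ι) (q : ℕ),
      IsZero (((TH J (∏ᶜ fun k => Y (a k)).left).T (q + 1)).obj F.obj)),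
    Function.Bijective (e F.obj p) := by
  induction p with
  | zero => exact fun F _ => e_zero_bijective he F.property
  | succ p ih =>
    intro F hF
    obtain ⟨I, S, hS, hI, hF', hI'⟩ := exists_ses F
    have h₁ : Presheaf.IsSheaf J S.X₁ := hF' ▸ F.property
    have h₂ : Presheaf.IsSheaf J S.X₂ := hI' ▸ I.property
    have hinj : Injective S.X₂ := by
      rw [hI']
      exact Groth.Agent.CohtopA.CechInj.injective_presheaf_of_injective_sheaf I
    rw [← hF'] at hF ⊢
    have hIz : ∀ (V : C) (q : ℕ), IsZero (((TH J V).T (q + 1)).obj S.X₂) := by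
      intro V q
      rw [hI']
      exact isZero_TH_injective I V q
    have hG : ∀ (n : ℕ) (a : Fin (n + 1) → ι) (q : ℕ),
      IsZero (((TH J (∏ᶜ fun k => Y (a k)).left).T (q + 1)).obj S.X₃) := by
      intro n a q
      exact ((TH J (∏ᶜ fun k => Y (a k)).left).exact₃ hS (q + 1)).isZero_of_both_zeros
        ((hIz _ _).eq_of_src _ _) ((hF n a (q + 1)).eq_of_tgt _ _)
    have hη : ∀ (n : ℕ) (a : Fin (n + 1) → ι),
        Function.Bijective ((toSh J S.X₃).app (op (∏ᶜ fun k => Y (a k)).left)).hom := fun n a =>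
      ⟨toSh_injective_quot hS h₁ h₂ _, toSh_surjective_quot hS h₂ _ (hF n a 0)⟩
    have hcx := isIso_cxMap (Y := Y) (toSh J S.X₃) hη
    -- the edge map of the quotient presheaf
    have h3 : Function.Bijective (e S.X₃ p) := by
      have hb := ih (shf J S.X₃) (fun n a q => isZero_TH_shf _ _ (hG n a q))
      have hc : Function.Bijective (cechHMap Y (toSh J S.X₃) p) := by
        have : IsIso (((TC Y).T p).map (toSh J S.X₃)) := by
          change IsIso ((HomologicalComplex.homologyFunctor AddCommGrpCat.{u} _ p).map ((cxFunctor Y).map (toSh J S.X₃)))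
          infer_instance
        exact ConcreteCategory.bijective_of_isIso (((TC Y).T p).map (toSh J S.X₃))
      have hiso := isIso_shfMap_toSh (J := J) S.X₃
      have hd := HUmap_bijective (shfMap J (toSh J S.X₃)) p U
      have hcomp : (HUmap (shfMap J (toSh J S.X₃)) p U) ∘ (e S.X₃ p) =
          (e (shf J S.X₃).obj p) ∘ (cechHMap Y (toSh J S.X₃) p) := by
        funext x
        exact (he.natural _ _ (toSh J S.X₃) p x).symm
      exact (Function.Bijective.of_comp_iff' hd _).1 (hcomp ▸ hb.comp hc)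
    have h2 : Function.Bijective (e S.X₂ p) := by
      have := ih I (fun n a q => isZero_TH_injective I _ q)
      rwa [hI']
    have e2 : IsIso (((toHom he).app p).app S.X₂) := (ConcreteCategory.isIso_iff_bijective _).2 h2
    have e3 : IsIso (((toHom he).app p).app S.X₃) := (ConcreteCategory.isIso_iff_bijective _).2 h3
    have e1 := (toHom he).isIso_succ hS p (TC_effaceable Y S.X₂ p) (hIz U p) e2 e3
    exact (ConcreteCategory.isIso_iff_bijective _).1 e1

theorem edgeSh_bijective (F : Sheaf J AddCommGrpCat.{u})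
    (h : ∀ (p : ℕ) (a : Fin (p + 1) → ι) (q : ℕ),
      Subsingleton (CohSite.HU F (q + 1) (∏ᶜ fun k => Y (a k)).left))
    (p : ℕ) : Function.Bijective (CechEdge.edgeSh e F p) :=
  (HUmap_bijective ((sheafificationAdjunction J AddCommGrpCat.{u}).counit.app F) p U).comp
    (e_bijective he p F fun n a q => isZero_TH_of_HU F _ _ (h n a q))

theorem edgeSh_one_injective (F : Sheaf J AddCommGrpCat.{u}) : Function.Injective (CechEdge.edgeSh e F 1) :=
  (HUmap_bijective ((sheafificationAdjunction J AddCommGrpCat.{u}).counit.app F) 1 U).1.comp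
    (e_one_injective he F)

end K869.Acyc
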