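import Groth.Agent.Localalg.DeltaFun
import Groth.Agent.CohtopA.CechInj
import Groth.Agent.CohtopB.CechSite
import Groth.Prelude.Def_CechEdge

/-!
# The Cech delta functor and the delta functor `n ↦ H^n(U, P^#)` on abelian presheaves
-/

set_option autoImplicit false
universe w v u v' u'

open CategoryTheory CategoryTheory.Limits Opposite
open Groth.Agent.Localalg.DeltaFun

namespace K869.Delta

section General

variable {C : Type u} [Category.{v} C] [Abelian C] {D : Type u'} [Category.{v'} D] [Abelian D]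

/-- The cohomological delta functor of an exact functor to cochain complexes. -/
noncomputable def ofCx (F : C ⥤ CochainComplex D ℕ) [F.Additive]
    (hF : ∀ S : ShortComplex C, S.ShortExact → (S.map F).ShortExact) : DeltaFunctor C D where
  T n := F ⋙ HomologicalComplex.homologyFunctor D _ n
  additive _ := inferInstance
  δ := fun {S} hS n => (hF S hS).δ n (n + 1) rfl
  naturality := fun {S S'} hS hS' φ n =>
    (HomologicalComplex.HomologySequence.δ_naturality (F.mapShortComplex.map φ)
      (hF S hS) (hF S' hS') n (n + 1) rfl).symm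
  zero₃ := fun {S} hS n => (hF S hS).comp_δ n (n + 1) rfl
  zero₁ := fun {S} hS n => (hF S hS).δ_comp n (n + 1) rfl
  exact₂ := fun {S} hS n => (hF S hS).homology_exact₂ n
  exact₃ := fun {S} hS n => (hF S hS).homology_exact₃ n (n + 1) rfl
  exact₁ := fun {S} hS n => (hF S hS).homology_exact₁ n (n + 1) rfl

variable [HasExt.{w} C]

open Abelian

theorem aux_nat {S S' : ShortComplex C} (hS : S.ShortExact) (hS' : S'.ShortExact) (φ : S ⟶ S') {A : C} {n : ℕ}
    (x : Ext A S.X₃ n) : (x.comp (Ext.mk₀ φ.τ₃) (add_zero n)).comp hS'.extClass rfl =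
      (x.comp hS.extClass rfl).comp (Ext.mk₀ φ.τ₁) (add_zero (n + 1)) := by
  rw [Ext.comp_assoc_of_second_deg_zero, Ext.comp_assoc_of_third_deg_zero,
    ShortComplex.ShortExact.extClass_naturality hS hS' φ]

theorem aux_zero₃ {S : ShortComplex C} (hS : S.ShortExact) {A : C} {n : ℕ}
    (x : Ext A S.X₂ n) : (x.comp (Ext.mk₀ S.g) (add_zero n)).comp hS.extClass rfl = 0 := by
  rw [Ext.comp_assoc_of_second_deg_zero, ShortComplex.ShortExact.comp_extClass, Ext.comp_zero]

theorem aux_zero₁ {S : ShortComplex C} (hS : S.ShortExact) {A : C} {n : ℕ}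
    (x : Ext A S.X₃ n) : (x.comp hS.extClass rfl).comp (Ext.mk₀ S.f) (add_zero (n + 1)) = 0 := by
  rw [Ext.comp_assoc_of_third_deg_zero, ShortComplex.ShortExact.extClass_comp, Ext.comp_zero]

/-- The delta functor `n ↦ Ext^n(A, -)`. -/
noncomputable def ofExt (A : C) : DeltaFunctor C AddCommGrpCat.{w} where
  T n := extFunctorObj A n
  additive n := inferInstance
  δ hS n := AddCommGrpCat.ofHom (hS.extClass.postcomp A (rfl : n + 1 = n + 1))
  naturality hS hS' φ n := by
    ext x
    exact aux_nat hS hS' φ x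
  zero₃ {S} hS n := by
    ext x
    exact aux_zero₃ hS x
  zero₁ {S} hS n := by
    ext x
    exact aux_zero₁ hS x
  exact₂ hS n := Ext.covariant_sequence_exact₂' A hS n
  exact₃ hS n := Ext.covariant_sequence_exact₃' A hS n (n + 1) rfl
  exact₁ hS n := Ext.covariant_sequence_exact₁' A hS n (n + 1) rfl

theorem ofExt_effaceable (A : C) : (ofExt A).Effaceable := by
  intro J _ n
  have : Subsingleton (Ext A J (n + 1)) := subsingleton_of_forall_eq 0 fun x ↦ Ext.eq_zero_of_injective x
  exact AddCommGrpCat.isZero_of_subsingleton (AddCommGrpCat.of (Ext A J (n + 1)))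

end General

section Site

open Groth.Agent.CohtopB.CechColim Groth.Agent.CohtopB.CechSite CechEdge

variable {C : Type u} [SmallCategory C] [HasPullbacks C] {U : C} {ι : Type u} (Y : ι → Over U)

instance additive_cx : (cxFunctor (C := C) Y).Additive where
  map_add {P Q f g} := by
    apply HomologicalComplex.hom_ext
    intro n
    apply AddCommGrpCat.hom_ext
    ext z
    refine cech_ext _ _ fun a => ?_
    have h1 := cechCxMap_π (f + g) Y a z
    have h2 := cechCxMap_π f Y a z
    have h3 := cechCxMap_π g Y a z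
    refine h1.trans ?_
    refine Eq.trans ?_ (congrArg₂ (· + ·) h2.symm h3.symm |>.trans (map_add _ _ _).symm)
    rfl

omit [HasPullbacks C] in
/-- Evaluating a short exact sequence of presheaves. -/
theorem shortExact_eval {S : ShortComplex (Cᵒᵖ ⥤ AddCommGrpCat.{u})} (hS : S.ShortExact) (V : Cᵒᵖ) :
    (S.map ((evaluation Cᵒᵖ AddCommGrpCat.{u}).obj V)).ShortExact :=
  hS.map_of_exact _

omit [HasPullbacks C] in
theorem app_injective {S : ShortComplex (Cᵒᵖ ⥤ AddCommGrpCat.{u})} (hS : S.ShortExact) (V : Cᵒᵖ) :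
    Function.Injective (S.f.app V).hom := by
  have := (shortExact_eval hS V).mono_f
  exact (AddCommGrpCat.mono_iff_injective _).1 this

omit [HasPullbacks C] in
theorem app_surjective {S : ShortComplex (Cᵒᵖ ⥤ AddCommGrpCat.{u})} (hS : S.ShortExact) (V : Cᵒᵖ) :
    Function.Surjective (S.g.app V).hom := by
  have := (shortExact_eval hS V).epi_g
  exact (AddCommGrpCat.epi_iff_surjective _).1 this

omit [HasPullbacks C] in
theorem app_exact {S : ShortComplex (Cᵒᵖ ⥤ AddCommGrpCat.{u})} (hS : S.ShortExact) (V : Cᵒᵖ)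
    (x : S.X₂.obj V) (hx : (S.g.app V).hom x = 0) : ∃ y, (S.f.app V).hom y = x := by
  exact (ShortComplex.ab_exact_iff _).1 (shortExact_eval hS V).exact x hx

omit [HasPullbacks C] in
theorem app_zero {S : ShortComplex (Cᵒᵖ ⥤ AddCommGrpCat.{u})} (V : Cᵒᵖ)
    (x : S.X₁.obj V) : (S.g.app V).hom ((S.f.app V).hom x) = 0 :=
  congrArg (fun t => (t.app V).hom x) S.zero

/-- The Cech complex functor on presheaves is exact. -/
theorem shortExact_cx {S : ShortComplex (Cᵒᵖ ⥤ AddCommGrpCat.{u})} (hS : S.ShortExact) :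
    (S.map (cxFunctor Y)).ShortExact := by
  apply HomologicalComplex.shortExact_of_degreewise_shortExact
  intro n
  have e1 : Mono ((S.map (cxFunctor Y)).map (HomologicalComplex.eval AddCommGrpCat.{u} _ n)).f := by
    rw [AddCommGrpCat.mono_iff_injective]
    intro x y hxy
    refine cech_ext (P := S.X₁) (Y := Y) x y fun a => app_injective hS _ ?_
    exact (cechCxMap_π S.f Y a x).symm.trans ((congrArg (cechπ S.X₂ Y a).hom hxy).trans (cechCxMap_π S.f Y a y))
  have e2 : Epi ((S.map (cxFunctor Y)).map (HomologicalComplex.eval AddCommGrpCat.{u} _ n)).g := by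
    rw [AddCommGrpCat.epi_iff_surjective]
    intro x
    have h : ∀ a : Fin (n + 1) → ι, _ := fun a =>
      app_surjective hS (op (∏ᶜ fun k => Y (a k)).left) ((cechπ S.X₃ Y a).hom x)
    choose y hy using h
    obtain ⟨z, hz⟩ := cech_exists (P := S.X₂) (Y := Y) y
    refine ⟨z, cech_ext (P := S.X₃) (Y := Y) _ _ fun a => ?_⟩
    refine (cechCxMap_π S.g Y a z).trans ?_
    rw [hz, hy]
  refine ShortComplex.ShortExact.mk ?_
  rw [ShortComplex.ab_exact_iff]
  intro x hx
  have h : ∀ a : Fin (n + 1) → ι, _ := fun a =>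
    app_exact hS (op (∏ᶜ fun k => Y (a k)).left) ((cechπ S.X₂ Y a).hom x)
      ((cechCxMap_π S.g Y a x).symm.trans ((congrArg (cechπ S.X₃ Y a).hom hx).trans (map_zero _)))
  choose y hy using h
  obtain ⟨z, hz⟩ := cech_exists (P := S.X₁) (Y := Y) y
  refine ⟨z, cech_ext (P := S.X₂) (Y := Y) _ _ fun a => ?_⟩
  refine (cechCxMap_π S.f Y a z).trans ?_
  rw [hz, hy]

/-- `p ↦ Ȟ^p(Y, P)`. -/
noncomputable def TC : DeltaFunctor (Cᵒᵖ ⥤ AddCommGrpCat.{u}) AddCommGrpCat.{u} :=
  ofCx (cxFunctor Y) (fun _ hS => shortExact_cx Y hS)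

theorem TC_effaceable : (TC Y).Effaceable := fun J _ n =>
  Groth.Agent.CohtopA.CechInj.isZero_cech_over_of_injective (P := J) Y n

variable (J : GrothendieckTopology C) (U)

omit [HasPullbacks C] in
variable {U} in
/-- `p ↦ H^p(U, P^#)`. -/
noncomputable def TH (U : C) : DeltaFunctor (Cᵒᵖ ⥤ AddCommGrpCat.{u}) AddCommGrpCat.{u} :=
  (ofExt (CohCx.freeSheaf J U)).precomp (presheafToSheaf J AddCommGrpCat.{u})

example (P : Cᵒᵖ ⥤ AddCommGrpCat.{u}) (p : ℕ) : ((TC Y).T p).obj P = CohCx.cechH P Y p := rfl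
example (P : Cᵒᵖ ⥤ AddCommGrpCat.{u}) (p : ℕ) : (((TH J U).T p).obj P : Type u) = CohSite.HU (shf J P) p U := rfl

end Site

end K869.Delta
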