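import Groth.Agent.CechEdge.K869.Zero
import Mathlib.CategoryTheory.Generator.Presheaf
import Mathlib.CategoryTheory.Abelian.GrothendieckAxioms.FunctorCategory
import Mathlib.CategoryTheory.Abelian.GrothendieckCategory.EnoughInjectives

/-!
# Existence and uniqueness of edge families
-/

set_option autoImplicit false
universe u

open CategoryTheory CategoryTheory.Limits Opposite
open Groth.Agent.Localalg.DeltaFun

namespace K869.Edge

open Groth.Agent.CohtopB.CechColim Groth.Agent.CohtopB.CechSite CechEdge K869.Delta K869.Zero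

variable {C : Type u} [SmallCategory C]

theorem isGrothendieckAbelian_psh : IsGrothendieckAbelian.{u} (Cᵒᵖ ⥤ AddCommGrpCat.{u}) where
  ab5OfSize := ⟨fun _ _ _ => inferInstance⟩

theorem enoughInjectives_psh : EnoughInjectives (Cᵒᵖ ⥤ AddCommGrpCat.{u}) :=
  have := isGrothendieckAbelian_psh (C := C)
  IsGrothendieckAbelian.enoughInjectives.{u}

section

variable {J : GrothendieckTopology C}

theorem HUmap_apply {F G : Sheaf J AddCommGrpCat.{u}} (ψ : F ⟶ G) (p : ℕ) (U : C) (x : CohSite.HU F p U) :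
    HUmap ψ p U x = Abelian.Ext.comp (X := CohCx.freeSheaf J U) (Y := F) (Z := G) x (Abelian.Ext.mk₀ ψ)
      (add_zero p) := rfl

theorem HUmap_comp {F G H : Sheaf J AddCommGrpCat.{u}} (ψ : F ⟶ G) (χ : G ⟶ H) (p : ℕ) (U : C)
    (x : CohSite.HU F p U) : HUmap (ψ ≫ χ) p U x = HUmap χ p U (HUmap ψ p U x) := by
  exact congrArg (fun t => (t.app (op U)).hom x) ((Sheaf.cohomologyPresheafFunctor J p).map_comp ψ χ)

theorem HUmap_id {F : Sheaf J AddCommGrpCat.{u}} (p : ℕ) (U : C)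
    (x : CohSite.HU F p U) : HUmap (𝟙 F) p U x = x := by
  exact congrArg (fun t => (t.app (op U)).hom x) ((Sheaf.cohomologyPresheafFunctor J p).map_id F)

theorem HUmap_injective {F G : Sheaf J AddCommGrpCat.{u}} (ψ : F ⟶ G) [IsIso ψ] (p : ℕ) (U : C) :
    Function.Injective (HUmap ψ p U) := by
  intro x y hxy
  have := congrArg (HUmap (inv ψ) p U) hxy
  rwa [← HUmap_comp, ← HUmap_comp, IsIso.hom_inv_id, HUmap_id, HUmap_id] at this

theorem HUmap_bijective {F G : Sheaf J AddCommGrpCat.{u}} (ψ : F ⟶ G) [IsIso ψ] (p : ℕ) (U : C) :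
    Function.Bijective (HUmap ψ p U) := by
  refine ⟨HUmap_injective ψ p U, fun x => ⟨HUmap (inv ψ) p U x, ?_⟩⟩
  rw [← HUmap_comp, IsIso.inv_hom_id, HUmap_id]

theorem sectH0_natural {F G : Sheaf J AddCommGrpCat.{u}} (ψ : F ⟶ G) (U : C) (s : F.obj.obj (op U)) :
    sectH0 J U G ((ψ.hom.app (op U)).hom s) = HUmap ψ 0 U (sectH0 J U F s) := by
  obtain ⟨f, rfl⟩ := (CohFree.homEquivSect J U F).surjective s
  have h1 : sectH0 J U F (CohFree.homEquivSect J U F f) = Abelian.Ext.mk₀ f := by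
    change Abelian.Ext.addEquiv₀.symm ((CohFree.homEquivSect J U F).symm (CohFree.homEquivSect J U F f)) = _
    rw [AddEquiv.symm_apply_apply]
    rfl
  have h2 : (ψ.hom.app (op U)).hom (CohFree.homEquivSect J U F f) = CohFree.homEquivSect J U G (f ≫ ψ) := rfl
  have h3 : sectH0 J U G (CohFree.homEquivSect J U G (f ≫ ψ)) = Abelian.Ext.mk₀ (f ≫ ψ) := by
    change Abelian.Ext.addEquiv₀.symm ((CohFree.homEquivSect J U G).symm (CohFree.homEquivSect J U G (f ≫ ψ))) = _
    rw [AddEquiv.symm_apply_apply]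
    rfl
  rw [h2, h3, h1]
  exact (Abelian.Ext.mk₀_comp_mk₀ f ψ).symm

end

variable [HasPullbacks C] {U : C} {ι : Type u} (Y : ι → Over U)

theorem cechHMap_comp {P Q R : Cᵒᵖ ⥤ AddCommGrpCat.{u}} (φ : P ⟶ Q) (χ : Q ⟶ R) (p : ℕ)
    (x : CohCx.cechH P Y p) : cechHMap Y (φ ≫ χ) p x = cechHMap Y χ p (cechHMap Y φ p x) := by
  have := ((TC Y).T p).map_comp φ χ
  exact congrArg (fun t => t.hom x) this

theorem cechHMap_id {P : Cᵒᵖ ⥤ AddCommGrpCat.{u}} (p : ℕ)
    (x : CohCx.cechH P Y p) : cechHMap Y (𝟙 P) p x = x := by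
  have := ((TC Y).T p).map_id P
  exact congrArg (fun t => t.hom x) this

variable (J : GrothendieckTopology C)

/-- The unit of sheafification, with the spelling used here. -/
noncomputable abbrev toSh (P : Cᵒᵖ ⥤ AddCommGrpCat.{u}) : P ⟶ (shf J P).obj := toSheafify J P

omit [HasPullbacks C] in
theorem toSh_natural {P Q : Cᵒᵖ ⥤ AddCommGrpCat.{u}} (φ : P ⟶ Q) :
    φ ≫ toSh J Q = toSh J P ≫ (shfMap J φ).hom :=
  toSheafify_naturality J φ

/-- The edge map in degree zero. -/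
noncomputable def e0 (hY : Sieve.ofArrows (fun i => (Y i).left) (fun i => (Y i).hom) ∈ J U)
    (P : Cᵒᵖ ⥤ AddCommGrpCat.{u}) : CohCx.cechH P Y 0 →+ CohSite.HU (shf J P) 0 U :=
  (sectH0 J U (shf J P)).toAddMonoidHom.comp
    ((AddEquiv.ofBijective (toCech Y (shf J P).obj) (toCech_bijective Y (shf J P) hY)).symm.toAddMonoidHom.comp
      (cechHMap Y (toSh J P) 0))

theorem e0_of (hY : Sieve.ofArrows (fun i => (Y i).left) (fun i => (Y i).hom) ∈ J U)
    (P : Cᵒᵖ ⥤ AddCommGrpCat.{u}) (x : CohCx.cechH P Y 0) (t : (shf J P).obj.obj (op U))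
    (h : cechHMap Y (toSh J P) 0 x = toCech Y (shf J P).obj t) : e0 Y J hY P x = sectH0 J U (shf J P) t := by
  change sectH0 J U (shf J P) ((AddEquiv.ofBijective (toCech Y (shf J P).obj)
    (toCech_bijective Y (shf J P) hY)).symm (cechHMap Y (toSh J P) 0 x)) = _
  rw [h]
  exact congrArg _ ((AddEquiv.ofBijective (toCech Y (shf J P).obj)
    (toCech_bijective Y (shf J P) hY)).symm_apply_apply t)

theorem e0_natural (hY : Sieve.ofArrows (fun i => (Y i).left) (fun i => (Y i).hom) ∈ J U)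
    {P Q : Cᵒᵖ ⥤ AddCommGrpCat.{u}} (φ : P ⟶ Q) (x : CohCx.cechH P Y 0) :
    e0 Y J hY Q (cechHMap Y φ 0 x) = HUmap (shfMap J φ) 0 U (e0 Y J hY P x) := by
  obtain ⟨t, ht⟩ := (toCech_bijective Y (shf J P) hY).2 (cechHMap Y (toSh J P) 0 x)
  rw [e0_of Y J hY P x t ht.symm, ← sectH0_natural]
  apply e0_of
  rw [← cechHMap_comp, toSh_natural, cechHMap_comp, ← ht, toCech_natural]

/-- The degree zero comparison as a natural transformation. -/
noncomputable def φ0 (hY : Sieve.ofArrows (fun i => (Y i).left) (fun i => (Y i).hom) ∈ J U) :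
    (TC Y).T 0 ⟶ (TH J U).T 0 where
  app P := AddCommGrpCat.ofHom (e0 Y J hY P)
  naturality P Q φ := by
    apply AddCommGrpCat.hom_ext
    ext x
    exact e0_natural Y J hY φ x

/-- Existence of edge families. -/
theorem exists_isEdge (hY : Sieve.ofArrows (fun i => (Y i).left) (fun i => (Y i).hom) ∈ J U) :
    ∃ e : ∀ (P : Cᵒᵖ ⥤ AddCommGrpCat.{u}) (p : ℕ), CohCx.cechH P Y p →+ CohSite.HU (CechEdge.shf J P) p U,
      CechEdge.IsEdge J Y e := by
  have := enoughInjectives_psh (C := C)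
  obtain ⟨Φ, hΦ⟩ := exists_deltaHom (TC Y) (TH J U) (TC_effaceable Y) (φ0 Y J hY)
  refine ⟨fun P p => ((Φ.app p).app P).hom, hY, ?_, ?_, ?_⟩
  · intro P s
    have h1 : ((Φ.app 0).app P).hom = e0 Y J hY P := by rw [hΦ]; rfl
    change ((Φ.app 0).app P).hom (toCech Y P s) = _
    rw [h1]
    exact e0_of Y J hY P _ _ (toCech_natural Y (toSh J P) s)
  · intro P Q φ p x
    exact congrArg (fun t => t.hom x) ((Φ.app p).naturality φ)
  · intro S hS hC p x
    exact (congrArg (fun t => t.hom x) (Φ.comm hS p)).symm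

variable {J Y}

/-- The morphism of delta functors of an edge family. -/
noncomputable def toHom {e : ∀ (P : Cᵒᵖ ⥤ AddCommGrpCat.{u}) (p : ℕ),
    CohCx.cechH P Y p →+ CohSite.HU (CechEdge.shf J P) p U} (he : CechEdge.IsEdge J Y e) :
    DeltaHom (TC Y) (TH J U) where
  app p :=
    { app P := AddCommGrpCat.ofHom (e P p)
      naturality P Q φ := by
        apply AddCommGrpCat.hom_ext
        ext x
        exact he.natural P Q φ p x }
  comm {S} hS n := by
    apply AddCommGrpCat.hom_ext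
    ext x
    exact (he.delta S hS (shortExact_cx Y hS) n x).symm

omit [HasPullbacks C] in
theorem isIso_shfMap_toSh (P : Cᵒᵖ ⥤ AddCommGrpCat.{u}) : IsIso (shfMap J (toSh J P)) :=
  inferInstance

theorem zero_unique {e e' : ∀ (P : Cᵒᵖ ⥤ AddCommGrpCat.{u}) (p : ℕ),
    CohCx.cechH P Y p →+ CohSite.HU (CechEdge.shf J P) p U} (he : CechEdge.IsEdge J Y e)
    (he' : CechEdge.IsEdge J Y e') (P : Cᵒᵖ ⥤ AddCommGrpCat.{u}) (x : CohCx.cechH P Y 0) :
    e P 0 x = e' P 0 x := by
  have := isIso_shfMap_toSh (J := J) P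
  apply HUmap_injective (shfMap J (toSh J P)) 0 U
  rw [← he.natural, ← he'.natural]
  obtain ⟨t, ht⟩ := (toCech_bijective Y (shf J P) he.cover).2 (cechHMap Y (toSh J P) 0 x)
  rw [← ht, he.zero, he'.zero]

/-- Uniqueness of edge families. -/
theorem isEdge_unique {e e' : ∀ (P : Cᵒᵖ ⥤ AddCommGrpCat.{u}) (p : ℕ),
    CohCx.cechH P Y p →+ CohSite.HU (CechEdge.shf J P) p U} (he : CechEdge.IsEdge J Y e)
    (he' : CechEdge.IsEdge J Y e') : e = e' := by
  have := enoughInjectives_psh (C := C)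
  have h := DeltaHom.ext_zero (TC_effaceable Y) (toHom he) (toHom he') (by
    ext P x
    exact zero_unique he he' P x)
  ext P p x
  exact congrArg (fun t => (t.app P).hom x) (h p)

end K869.Edge
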