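import Groth.Agent.CechEdge.K869.Zero

/-!
# The sheaf condition through `toCech`
-/

set_option autoImplicit false
universe u

open CategoryTheory CategoryTheory.Limits Opposite

namespace K869.IsSheafIff

open Groth.Agent.CohtopB.CechColim Groth.Agent.CohtopB.CechSite CechEdge K869.Zero

variable {C : Type u} [SmallCategory C] [HasPullbacks C]

/-- The family of all arrows of a sieve. -/
def fam {U : C} (S : Sieve U) : (Σ V : C, {f : V ⟶ U // S f}) → Over U := fun i => Over.mk i.2.1

omit [HasPullbacks C] in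
theorem ofArrows_fam {U : C} (S : Sieve U) :
    Sieve.ofArrows (fun i => (fam S i).left) (fun i => (fam S i).hom) = S := by
  ext V f
  constructor
  · intro h
    obtain ⟨W, g, g', h1, rfl⟩ := h
    obtain ⟨i⟩ := h1
    exact S.downward_closed i.2.2 g
  · intro h
    exact Sieve.ofArrows_mk (fun i => (fam S i).left) (fun i => (fam S i).hom) (⟨V, f, h⟩ : Σ V : C, {f : V ⟶ U // S f})

theorem prod_mem {U : C} (S : Sieve U) {n : ℕ} (a : Fin (n + 1) → Σ V : C, {f : V ⟶ U // S f}) :
    S (∏ᶜ fun k => fam S (a k)).hom := by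
  rw [← Over.w (Pi.π (fun k => fam S (a k)) 0)]
  exact S.downward_closed (a 0).2.2 _

theorem isSheafFor_of_bijective (P : Cᵒᵖ ⥤ AddCommGrpCat.{u}) {U : C} (S : Sieve U)
    (h : Function.Bijective (toCech (fam S) P)) :
    Presieve.IsSheafFor (P ⋙ forget AddCommGrpCat.{u}) S.arrows := by
  rw [toCech_bijective_iff] at h
  obtain ⟨hinj, hsurj⟩ := h
  intro x hx
  have hx' := (Presieve.compatible_iff_sieveCompatible x).1 hx
  -- the cochain
  obtain ⟨y, hy⟩ := cech_exists (P := P) (Y := fam S) (n := 0) (fun a => x _ (prod_mem S a))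
  have hdy : ((cx P (fam S)).d 0 1).hom y = 0 := by
    refine cech_ext (P := P) (Y := fam S) _ _ fun b => ?_
    refine (cech_d_π P (fam S) 0 y b).trans ?_
    rw [map_zero, Fin.sum_univ_two]
    have h : ∀ j : Fin 2, (P.map (face (fam S) b j).left.op).hom
        ((cechπ P (fam S) (b ∘ j.succAbove)).hom y) = x _ (prod_mem S b) := by
      intro j
      rw [hy]
      have h1 := hx' _ (face (fam S) b j).left (prod_mem S (b ∘ j.succAbove))
      refine h1.symm.trans ?_
      have h2 : (face (fam S) b j).left ≫ (∏ᶜ fun k => fam S ((b ∘ j.succAbove) k)).hom =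
        (∏ᶜ fun k => fam S (b k)).hom := Over.w (face (fam S) b j)
      congr 1
    rw [h, h]
    simp
  obtain ⟨t, ht⟩ := hsurj y hdy
  refine ⟨t, ?_, ?_⟩
  · intro V f hf
    let i : Σ V : C, {f : V ⟶ U // S f} := ⟨V, f, hf⟩
    let s : fam S i ⟶ ∏ᶜ fun k : Fin 1 => fam S ((fun _ : Fin 1 => i) k) := Pi.lift (fun _ => 𝟙 _)
    have h1 := congrArg (cechπ P (fam S) (fun _ => i)).hom ht
    rw [toCech₀_π, hy] at h1
    have h2 := congrArg (P.map s.left.op).hom h1
    have h3 := hx' _ s.left (prod_mem S (fun _ : Fin 1 => i))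
    have h4 : s.left ≫ (∏ᶜ fun k : Fin 1 => fam S ((fun _ : Fin 1 => i) k)).hom = f := Over.w s
    change (P.map f.op).hom t = _
    have h5 : ∀ {A B D : C} (g : A ⟶ B) (g' : B ⟶ D) (f : A ⟶ D) (_ : g ≫ g' = f) (t : P.obj (op D)),
        (P.map f.op).hom t = (P.map g.op).hom ((P.map g'.op).hom t) := by
      intro A B D g g' f h t
      rw [← h, op_comp, P.map_comp]
      rfl
    refine (h5 s.left _ f h4 t).trans ?_
    refine h2.trans (h3.symm.trans ?_)
    congr 1
  · intro t' ht'
    apply hinj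
    rw [ht]
    refine cech_ext (P := P) (Y := fam S) _ _ fun a => ?_
    rw [toCech₀_π, hy]
    exact ht' _ (prod_mem S a)

/-- Sheaf condition through the Cech augmentation. -/
theorem isSheaf_iff (J : GrothendieckTopology C) (P : Cᵒᵖ ⥤ AddCommGrpCat.{u}) :
    Presheaf.IsSheaf J P ↔ ∀ (U : C) (ι : Type u) (Y : ι → Over U),
      Sieve.ofArrows (fun i => (Y i).left) (fun i => (Y i).hom) ∈ J U →
        Function.Bijective (CechEdge.toCech Y P) := by
  constructor
  · intro h U ι Y hY
    exact toCech_bijective Y (⟨P, h⟩ : Sheaf J AddCommGrpCat.{u}) hY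
  · intro h
    rw [Presheaf.isSheaf_iff_isSheaf_forget J P (forget AddCommGrpCat.{u}), isSheaf_iff_isSheaf_of_type]
    intro U S hS
    exact isSheafFor_of_bijective P S (h U _ (fam S) (by rwa [ofArrows_fam]))

end K869.IsSheafIff
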