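import Groth.Agent.CechEdge.K869.Edge

/-!
# Edge families and refinement
-/

set_option autoImplicit false
universe u

open CategoryTheory CategoryTheory.Limits Opposite
open Groth.Agent.Localalg.DeltaFun

namespace K869.Refine

open Groth.Agent.CohtopB.CechColim Groth.Agent.CohtopB.CechSite CechEdge K869.Delta K869.Zero K869.Edge

variable {C : Type u} [SmallCategory C] [HasPullbacks C] {U : C} {ι κ : Type u} {Y : ι → Over U} {Y' : κ → Over U}
  (f : FormalCoproduct.mk ι Y ⟶ FormalCoproduct.mk κ Y')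

/-- The refinement map with the spelling of `cx`. -/
noncomputable abbrev rf (P : Cᵒᵖ ⥤ AddCommGrpCat.{u}) : cx P Y' ⟶ cx P Y := CohCx.cechRefine P f

/-- Refinement as a natural transformation of Cech complex functors. -/
noncomputable def rfNat : cxFunctor (C := C) Y' ⟶ cxFunctor Y where
  app P := rf f P
  naturality P Q φ := by
    have h := ((Functor.whiskeringLeft _ _ AddCommGrpCat.{u}).map
      (NatTrans.rightOp (FormalCoproduct.cechFunctor.map f))).naturality
        ((FormalCoproduct.evalOp.{u} (Over U) AddCommGrpCat.{u}).map (Functor.whiskerLeft (Over.forget U).op φ))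
    have h2 := congrArg (AlgebraicTopology.alternatingCofaceMapComplex AddCommGrpCat.{u}).map h
    exact ((AlgebraicTopology.alternatingCofaceMapComplex AddCommGrpCat.{u}).map_comp _ _).symm.trans
      (h2.trans ((AlgebraicTopology.alternatingCofaceMapComplex AddCommGrpCat.{u}).map_comp _ _))

/-- The map between products. -/
noncomputable def rp {n : ℕ} (b : Fin (n + 1) → ι) :
    (∏ᶜ fun k => Y (b k)) ⟶ ∏ᶜ fun k => Y' (f.f (b k)) :=
  Pi.lift fun k => Pi.π (fun k => Y (b k)) k ≫ f.φ (b k)

/-- Refinement in degree zero. -/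
theorem rf_π_zero (P : Cᵒᵖ ⥤ AddCommGrpCat.{u}) (b : Fin 1 → ι) (x : (cx P Y').X 0) :
    (cechπ P Y b).hom (((rf f P).f 0).hom x) =
      (P.map (rp f b).left.op).hom ((cechπ P Y' (fun k => f.f (b k))).hom x) := by
  have h : (rf f P).f 0 ≫ cechπ P Y b = cechπ P Y' (fun k => f.f (b k)) ≫ P.map (rp f b).left.op := 
    Pi.lift_π _ b
  exact congrArg (fun t => t.hom x) h

theorem toCech₀_rf (P : Cᵒᵖ ⥤ AddCommGrpCat.{u}) : toCech₀ P Y' ≫ (rf f P).f 0 = toCech₀ P Y := by
  apply AddCommGrpCat.hom_ext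
  ext t
  refine cech_ext (P := P) (Y := Y) _ _ fun b => ?_
  refine (rf_π_zero f P b _).trans ?_
  refine Eq.trans ?_ (toCech₀_π Y P b t).symm
  refine (congrArg (P.map (rp f b).left.op).hom (toCech₀_π Y' P (fun k => f.f (b k)) t)).trans ?_
  have h5 : ∀ {A B D : C} (g : A ⟶ B) (g' : B ⟶ D) (f : A ⟶ D) (_ : g ≫ g' = f) (t : P.obj (op D)),
      (P.map g.op).hom ((P.map g'.op).hom t) = (P.map f.op).hom t := by
    intro A B D g g' f h t
    rw [← h, op_comp, P.map_comp]
    rfl
  exact h5 _ _ _ (Over.w (rp f b)) t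

theorem toCech_rf (P : Cᵒᵖ ⥤ AddCommGrpCat.{u}) (s : P.obj (op U)) :
    (HomologicalComplex.homologyMap (rf f P) 0).hom (toCech Y' P s) = toCech Y P s := by
  have h2 : toCycles P Y' ≫ HomologicalComplex.cyclesMap (rf f P) 0 = toCycles P Y := by
    rw [← cancel_mono ((cx P Y).iCycles 0), Category.assoc, toCycles_i,
      HomologicalComplex.cyclesMap_i, ← Category.assoc, toCycles_i]
    exact toCech₀_rf f P
  have h3 : (toCycles P Y' ≫ (cx P Y').homologyπ 0) ≫ HomologicalComplex.homologyMap (rf f P) 0 =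
      toCycles P Y ≫ (cx P Y).homologyπ 0 := by
    rw [Category.assoc, HomologicalComplex.homologyπ_naturality, ← Category.assoc, h2]
  exact congrArg (fun r => r.hom s) h3

/-- Refinement is a morphism of delta functors. -/
theorem rf_delta {S : ShortComplex (Cᵒᵖ ⥤ AddCommGrpCat.{u})} (hS' : (S.map (cxFunctor Y')).ShortExact)
    (hS : (S.map (cxFunctor Y)).ShortExact) (p : ℕ) (x : CohCx.cechH S.X₃ Y' p) :
    (HomologicalComplex.homologyMap (rf f S.X₁) (p + 1)).hom ((hS'.δ p (p + 1) rfl).hom x) =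
      (hS.δ p (p + 1) rfl).hom ((HomologicalComplex.homologyMap (rf f S.X₃) p).hom x) := by
  have h := HomologicalComplex.HomologySequence.δ_naturality (S.mapNatTrans (rfNat f)) hS' hS p (p + 1) rfl
  exact congrArg (fun r => r.hom x) h

variable {J : GrothendieckTopology C}

theorem isEdge_comp {e : ∀ (P : Cᵒᵖ ⥤ AddCommGrpCat.{u}) (p : ℕ),
    CohCx.cechH P Y p →+ CohSite.HU (CechEdge.shf J P) p U} (he : CechEdge.IsEdge J Y e)
    (hY' : Sieve.ofArrows (fun i => (Y' i).left) (fun i => (Y' i).hom) ∈ J U) :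
    CechEdge.IsEdge J Y' (fun P p => (e P p).comp (HomologicalComplex.homologyMap (rf f P) p).hom) where
  cover := hY'
  zero P s := by
    change e P 0 ((HomologicalComplex.homologyMap (rf f P) 0).hom (toCech Y' P s)) = _
    rw [toCech_rf]
    exact he.zero P s
  natural P Q φ p x := by
    refine Eq.trans ?_ (he.natural P Q φ p ((HomologicalComplex.homologyMap (rf f P) p).hom x))
    refine congrArg (e Q p) ?_
    have h := (rfNat f).naturality φ
    have h2 := congrArg (fun t => HomologicalComplex.homologyMap t p) h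
    simp only [HomologicalComplex.homologyMap_comp] at h2
    exact congrArg (fun t => t.hom x) h2
  delta S hS hC p x := by
    refine Eq.trans ?_ (he.delta S hS (shortExact_cx Y hS) p ((HomologicalComplex.homologyMap (rf f S.X₃) p).hom x))
    exact congrArg (e S.X₁ (p + 1)) (rf_delta f hC (shortExact_cx Y hS) p x)

theorem edgeSh_rf {e : ∀ (P : Cᵒᵖ ⥤ AddCommGrpCat.{u}) (p : ℕ),
    CohCx.cechH P Y p →+ CohSite.HU (CechEdge.shf J P) p U}
    {e' : ∀ (P : Cᵒᵖ ⥤ AddCommGrpCat.{u}) (p : ℕ),
    CohCx.cechH P Y' p →+ CohSite.HU (CechEdge.shf J P) p U} (he : CechEdge.IsEdge J Y e)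
    (he' : CechEdge.IsEdge J Y' e') (F : Sheaf J AddCommGrpCat.{u}) (p : ℕ) (x : CohCx.cechH F.obj Y' p) :
    CechEdge.edgeSh e F p ((HomologicalComplex.homologyMap (CohCx.cechRefine F.obj f) p).hom x) =
      CechEdge.edgeSh e' F p x := by
  have h := isEdge_unique (isEdge_comp f he he'.cover) he'
  subst h
  rfl

end K869.Refine
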