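import Groth.Agent.CechEdge.K869.Delta

/-!
# Degree zero: sections over `U` and `Ȟ^0`
-/

set_option autoImplicit false
universe u

open CategoryTheory CategoryTheory.Limits Opposite
open Groth.Agent.Localalg.DeltaFun

namespace K869.Zero

open Groth.Agent.CohtopB.CechColim Groth.Agent.CohtopB.CechSite CechEdge K869.Delta

variable {C : Type u} [SmallCategory C] [HasPullbacks C] {U : C} {ι : Type u} (Y : ι → Over U)

theorem toCech₀_π (P : Cᵒᵖ ⥤ AddCommGrpCat.{u}) (a : Fin 1 → ι) (t : P.obj (op U)) :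
    (cechπ P Y a).hom ((toCech₀ P Y).hom t) = (P.map (∏ᶜ fun k => Y (a k)).hom.op).hom t := by
  have h : toCech₀ P Y ≫ cechπ P Y a = P.map (∏ᶜ fun k => Y (a k)).hom.op := Pi.lift_π _ a
  exact congrArg (fun s => s.hom t) h

/-- Cycles in degree zero, elementwise. -/
theorem exists_cycle (P : Cᵒᵖ ⥤ AddCommGrpCat.{u}) (x : (cx P Y).X 0) (hx : ((cx P Y).d 0 1).hom x = 0) :
    ∃ z : (cx P Y).cycles 0, ((cx P Y).iCycles 0).hom z = x := by
  refine ⟨((cx P Y).liftCycles (ofElem x) 1 (by simp) ?_).hom (ULift.up 1), ?_⟩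
  · rw [ofElem_comp, hx]
    ext z
    change (ofElem (0 : (cx P Y).X 1)).hom _ = 0
    obtain ⟨z⟩ := z
    change (zmultiplesHom _ (0 : (cx P Y).X 1)) z = 0
    simp
  · have := (cx P Y).liftCycles_i (ofElem x) 1 (by simp) (by
      rw [ofElem_comp, hx]
      ext z
      change (ofElem (0 : (cx P Y).X 1)).hom _ = 0
      obtain ⟨z⟩ := z
      change (zmultiplesHom _ (0 : (cx P Y).X 1)) z = 0
      simp)
    exact (congrArg (fun s => s.hom (ULift.up 1)) this).trans (ofElem_one x)

theorem iCycles_injective (P : Cᵒᵖ ⥤ AddCommGrpCat.{u}) (n : ℕ) :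
    Function.Injective ((cx P Y).iCycles n).hom :=
  (AddCommGrpCat.mono_iff_injective _).1 inferInstance

theorem iCycles_d (P : Cᵒᵖ ⥤ AddCommGrpCat.{u}) (n m : ℕ) (z : (cx P Y).cycles n) :
    ((cx P Y).d n m).hom (((cx P Y).iCycles n).hom z) = 0 :=
  congrArg (fun s => s.hom z) ((cx P Y).iCycles_d n m)

theorem homologyπ_bijective (P : Cᵒᵖ ⥤ AddCommGrpCat.{u}) :
    Function.Bijective ((cx P Y).homologyπ 0).hom :=
  ConcreteCategory.bijective_of_isIso ((cx P Y).homologyπ 0)

theorem toCycles_i_apply (P : Cᵒᵖ ⥤ AddCommGrpCat.{u}) (t : P.obj (op U)) :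
    ((cx P Y).iCycles 0).hom ((toCycles P Y).hom t) = (toCech₀ P Y).hom t :=
  congrArg (fun s => s.hom t) (toCycles_i P Y)

/-- `toCech` is bijective iff the degree zero Cech sequence is exact. -/
theorem toCech_bijective_iff (P : Cᵒᵖ ⥤ AddCommGrpCat.{u}) :
    Function.Bijective (toCech Y P) ↔ Function.Injective (toCech₀ P Y).hom ∧
      ∀ x : (cx P Y).X 0, ((cx P Y).d 0 1).hom x = 0 → ∃ t, (toCech₀ P Y).hom t = x := by
  have h0 : Function.Bijective (toCech Y P) ↔ Function.Bijective (toCycles P Y).hom := by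
    have : (toCech Y P : P.obj (op U) → CohCx.cechH P Y 0) =
      ((cx P Y).homologyπ 0).hom ∘ (toCycles P Y).hom := rfl
    rw [this]
    exact (homologyπ_bijective Y P).of_comp_iff' _
  rw [h0]
  constructor
  · intro h
    constructor
    · intro s t hst
      apply h.1
      apply iCycles_injective
      rw [toCycles_i_apply, toCycles_i_apply, hst]
    · intro x hx
      obtain ⟨z, rfl⟩ := exists_cycle Y P x hx
      obtain ⟨t, rfl⟩ := h.2 z
      exact ⟨t, (toCycles_i_apply Y P t).symm⟩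
  · intro h
    constructor
    · intro s t hst
      apply h.1
      rw [← toCycles_i_apply, ← toCycles_i_apply, hst]
    · intro z
      obtain ⟨t, ht⟩ := h.2 _ (iCycles_d Y P 0 1 z)
      refine ⟨t, iCycles_injective Y P 0 ?_⟩
      rw [toCycles_i_apply, ht]

/-- Sections of a sheaf are degree zero Cech cohomology for a covering. -/
theorem toCech_bijective {J : GrothendieckTopology C} (F : Sheaf J AddCommGrpCat.{u})
    (hY : Sieve.ofArrows (fun i => (Y i).left) (fun i => (Y i).hom) ∈ J U) :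
    Function.Bijective (toCech Y F.obj) := by
  rw [toCech_bijective_iff]
  constructor
  · intro s t hst
    refine section_ext F Y hY s t fun a => ?_
    rw [← toCech₀_π, ← toCech₀_π, hst]
  · intro x hx
    obtain ⟨t, ht⟩ := exists_of_cocycle_zero F Y hY x hx
    refine ⟨t, cech_ext (P := F.obj) (Y := Y) _ _ fun a => ?_⟩
    rw [toCech₀_π, ht]

/-- Naturality of `toCech`. -/
theorem toCech_natural {P Q : Cᵒᵖ ⥤ AddCommGrpCat.{u}} (φ : P ⟶ Q) (s : P.obj (op U)) :
    cechHMap Y φ 0 (toCech Y P s) = toCech Y Q ((φ.app (op U)).hom s) := by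
  have h1 : toCech₀ P Y ≫ ((cxFunctor Y).map φ).f 0 = φ.app (op U) ≫ toCech₀ Q Y := by
    apply AddCommGrpCat.hom_ext
    ext t
    refine cech_ext (P := Q) (Y := Y) _ _ fun a => ?_
    refine (cechCxMap_π φ Y a _).trans ?_
    refine (congrArg (φ.app _).hom (toCech₀_π Y P a t)).trans ?_
    refine Eq.trans ?_ (toCech₀_π Y Q a _).symm
    exact congrArg (fun r => r.hom t) (φ.naturality (∏ᶜ fun k => Y (a k)).hom.op)
  let f : cx P Y ⟶ cx Q Y := (cxFunctor Y).map φ
  have h2 : toCycles P Y ≫ HomologicalComplex.cyclesMap f 0 = φ.app (op U) ≫ toCycles Q Y := by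
    rw [← cancel_mono ((cx Q Y).iCycles 0), Category.assoc, Category.assoc, toCycles_i,
      HomologicalComplex.cyclesMap_i, ← Category.assoc, toCycles_i]
    exact h1
  have h3 : (toCycles P Y ≫ (cx P Y).homologyπ 0) ≫ HomologicalComplex.homologyMap f 0 =
        φ.app (op U) ≫ (toCycles Q Y ≫ (cx Q Y).homologyπ 0) := by
    rw [Category.assoc, HomologicalComplex.homologyπ_naturality, ← Category.assoc, h2, Category.assoc]
  exact congrArg (fun r => r.hom s) h3

end K869.Zero
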